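import Groth.Agent.AlgStLib.Substack
import Groth.Agent.AlgStLib.LocQ6

/-! Largest open substacks on which a representable morphism has a property: charts. -/

set_option autoImplicit false
set_option linter.all false
set_option backward.isDefEq.respectTransparency false
set_option backward.isDefEq.respectTransparency.types false

noncomputable section

universe u

open CategoryTheory CategoryTheory.Limits AlgebraicGeometry Opposite AlgSp FibCat FibLib AlgSpLib AlgStLib

namespace LargestLib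

variable {S : Scheme.{u}}

section Space

variable (P : MorphismProperty (Sp S))

/-- `W` is the largest open on which `a` has `P`. -/
def Largest {F G : Sp S} (a : F ⟶ G) (W : Set (Points F)) : Prop :=
  IsOpen W ∧ P (openSubι F W ≫ a) ∧ ∀ W₁ : Set (Points F), IsOpen W₁ → P (openSubι F W₁ ≫ a) → W₁ ⊆ W

variable {P}

lemma Largest.unique {F G : Sp S} {a : F ⟶ G} {W W' : Set (Points F)} (h : Largest P a W) (h' : Largest P a W') :
    W = W' :=
  Set.Subset.antisymm (h'.2.2 W h.1 h.2.1) (h.2.2 W' h'.1 h'.2.1)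

lemma exists_iso_openSub {F' F : Sp S} {j : F' ⟶ F} (hj : RepWith @IsOpenImmersion j)
    {W : Set (Points F)} (hW : IsOpen W) (h : Set.range (Points.map j) = W) :
    ∃ i : openSub F W ≅ F', i.hom ≫ j = openSubι F W := by
  haveI : Mono j := mono_of_openImmersion hj
  obtain ⟨l, hl⟩ := (exists_factor_iff hj (openSubι F W)).2 (by rw [range_openSubι, h])
  obtain ⟨m, hm⟩ := (exists_factor_iff (repWith_openSubι F hW) j).2 (by rw [range_openSubι, h])
  exact ⟨⟨l, m, by rw [← cancel_mono (openSubι F W), Category.assoc, hm, hl, Category.id_comp],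
    by rw [← cancel_mono j, Category.assoc, hl, hm, Category.id_comp]⟩, hl⟩

lemma largest_iso (hPb : StableBC P) {F F' G : Sp S} (hF : IsAlgSpace F) (hG : IsAlgSpace G) (i : F' ≅ F)
    {a : F ⟶ G} {W : Set (Points F)} (h : Largest P a W) :
    Largest P (i.hom ≫ a) (Points.map i.hom ⁻¹' W) := by
  have key : ∀ {F F' : Sp S} (_ : IsAlgSpace F) (i : F' ≅ F) (a : F ⟶ G) (W₁ : Set (Points F)), IsOpen W₁ →
      P (openSubι F W₁ ≫ a) → P (openSubι F' (Points.map i.hom ⁻¹' W₁) ≫ i.hom ≫ a) := by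
    intro F F' hF i a W₁ hW₁ hP
    have hWo : IsOpen (Points.map i.hom ⁻¹' W₁) := hW₁.preimage (Points.continuous_map i.hom)
    have hs : ∀ x, Points.map i.hom (Points.map i.inv x) = x := fun x => by
      rw [← Points.map_comp, i.inv_hom_id, Points.map_id]
    haveI hmono : Mono (openSubι F' (Points.map i.hom ⁻¹' W₁) ≫ i.hom) := inferInstance
    obtain ⟨j, hj⟩ := exists_iso_openSub (j := openSubι F W₁ ≫ i.inv)
      (repWith_comp (repWith_openSubι F hW₁) (repWith_of_isIso _)) hWo (by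
        ext x
        constructor
        · rintro ⟨y, rfl⟩
          show Points.map i.hom _ ∈ W₁
          rw [Points.map_comp, hs]
          exact (range_openSubι F (W := W₁)).subset ⟨y, rfl⟩
        · intro hx
          obtain ⟨y, hy⟩ := (range_openSubι F (W := W₁)).superset hx
          refine ⟨y, ?_⟩
          rw [Points.map_comp, hy, ← Points.map_comp, i.hom_inv_id, Points.map_id])
    rw [← reassoc_of% hj, i.inv_hom_id_assoc]
    exact hPb.precomp_iso j _ (isAlgSpace_openSub hF hW₁) hG hP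
  refine ⟨h.1.preimage (Points.continuous_map i.hom), key hF i a W h.1 h.2.1, fun W₁ hW₁ hP => ?_⟩
  have := key (hF.of_iso i.symm) i.symm (i.hom ≫ a) W₁ hW₁ hP
  rw [Iso.symm_hom, i.inv_hom_id_assoc] at this
  have hle := h.2.2 _ (hW₁.preimage (Points.continuous_map i.inv)) this
  intro x hx
  refine hle (show Points.map i.inv (Points.map i.hom x) ∈ W₁ from ?_)
  rw [← Points.map_comp, i.hom_inv_id, Points.map_id]
  exact hx

end Space

section Hyp

variable (P Q R : MorphismProperty (Sp S))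

/-- The hypotheses on the three properties. -/
structure Hyp : Prop where
  hPb : StableBC P
  hQb : StableBC Q
  hRb : StableBC R
  hP : IsLocalOnBase IsFppfCover P
  hQ : IsLocalOnBase IsFppfCover Q
  hR : IsLocalOnBase IsFppfCover R
  h₂ : ∀ (X Y : Space S) (g : X ⟶ Y), LocP @Smooth g.hom → R g.hom
  h₃ : ∀ (X Y : Space S) (f : X ⟶ Y), Q f.hom →
      ∃ (W : Space S) (w : W ⟶ X), (RepWith @IsOpenImmersion w.hom ∧ P (w ≫ f).hom ∧
          ∀ (W₁ : Space S) (w₁ : W₁ ⟶ X), RepWith @IsOpenImmersion w₁.hom → P (w₁ ≫ f).hom →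
            ∃ k : W₁ ⟶ W, k ≫ w = w₁)
  h₄ : ∀ (X Y X' Y' : Space S) (f : X ⟶ Y) (g : Y' ⟶ Y) (f' : X' ⟶ Y') (g' : X' ⟶ X),
      IsPullback g'.hom f'.hom f.hom g.hom → Q f.hom → R g.hom →
      ∀ (W : Space S) (w : W ⟶ X), (RepWith @IsOpenImmersion w.hom ∧ P (w ≫ f).hom ∧
          ∀ (W₁ : Space S) (w₁ : W₁ ⟶ X), RepWith @IsOpenImmersion w₁.hom → P (w₁ ≫ f).hom →
            ∃ k : W₁ ⟶ W, k ≫ w = w₁) →
        ∀ (W' : Space S) (w' : W' ⟶ X') (k : W' ⟶ W), IsPullback k.hom w'.hom w.hom g'.hom →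
          (RepWith @IsOpenImmersion w'.hom ∧ P (w' ≫ f').hom ∧
          ∀ (W₁ : Space S) (w₁ : W₁ ⟶ X'), RepWith @IsOpenImmersion w₁.hom → P (w₁ ≫ f').hom →
            ∃ k : W₁ ⟶ W', k ≫ w' = w₁)

variable {P Q R}

lemma exists_largest (H : Hyp P Q R) {F G : Sp S} (hF : IsAlgSpace F) (hG : IsAlgSpace G) (a : F ⟶ G) (ha : Q a) :
    ∃ W, Largest P a W := by
  obtain ⟨W, w, hw, hP, hmax⟩ := H.h₃ ⟨F, hF⟩ ⟨G, hG⟩ (ObjectProperty.homMk a) ha
  let O := Set.range (Points.map w.hom)
  have hO : IsOpen O :=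
    (isOpenMap_map_of_isEtaleMor W.property (isEtaleMor_of_openImmersion hw)).isOpen_range
  obtain ⟨i, hi⟩ := exists_iso_openSub hw hO rfl
  refine ⟨O, hO, ?_, fun W₁ hW₁ hP₁ => ?_⟩
  · rw [← hi, Category.assoc]
    exact H.hPb.precomp_iso i _ W.property hG hP
  · obtain ⟨k, hk⟩ := hmax ⟨_, isAlgSpace_openSub hF hW₁⟩ (ObjectProperty.homMk (openSubι F W₁))
      (repWith_openSubι F hW₁) hP₁
    rw [← range_openSubι F (W := W₁)]
    exact (exists_factor_iff hw _).1 ⟨k.hom, congrArg (fun m => m.hom) hk⟩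

lemma largest_baseChange (H : Hyp P Q R) {F G F' G' : Sp S} (hF : IsAlgSpace F) (hG : IsAlgSpace G)
    (hF' : IsAlgSpace F') (hG' : IsAlgSpace G') {a : F ⟶ G} {b : G' ⟶ G} {a' : F' ⟶ G'} {b' : F' ⟶ F}
    (sq : IsPullback b' a' a b) (ha : Q a) (hb : R b) {W : Set (Points F)} (h : Largest P a W) :
    Largest P a' (Points.map b' ⁻¹' W) := by
  let W' := Points.map b' ⁻¹' W
  have hW' : IsOpen W' := h.1.preimage (Points.continuous_map b')
  obtain ⟨k, hk⟩ := (exists_factor_iff (repWith_openSubι F h.1) (openSubι F' W' ≫ b')).2 (by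
    rintro _ ⟨y, rfl⟩
    rw [range_openSubι, Points.map_comp]
    exact (range_openSubι F' (W := W')).subset ⟨y, rfl⟩)
  have sqW : IsPullback k (openSubι F' W') (openSubι F W) b' := by
    refine ⟨⟨hk⟩, ⟨PullbackCone.IsLimit.mk _ (fun c => ((exists_factor_iff (repWith_openSubι F' hW') c.snd).2
      (by
        rintro _ ⟨y, rfl⟩
        rw [range_openSubι]
        show Points.map b' _ ∈ W
        rw [← Points.map_comp, ← c.condition, Points.map_comp]
        exact (range_openSubι F (W := W)).subset ⟨_, rfl⟩)).choose) (fun c => ?_) (fun c => ?_) fun c m h₁ h₂ => ?_⟩⟩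
    · rw [← cancel_mono (openSubι F W), Category.assoc, hk, ← Category.assoc]
      rw [Exists.choose_spec (p := fun g => g ≫ openSubι F' W' = c.snd)]
      exact c.condition.symm
    · exact Exists.choose_spec (p := fun g => g ≫ openSubι F' W' = c.snd) _
    · rw [← cancel_mono (openSubι F' W'), h₂]
      exact (Exists.choose_spec (p := fun g => g ≫ openSubι F' W' = c.snd) _).symm
  obtain ⟨h1, h2, h3⟩ := H.h₄ ⟨F, hF⟩ ⟨G, hG⟩ ⟨F', hF'⟩ ⟨G', hG'⟩ (ObjectProperty.homMk a)
    (ObjectProperty.homMk b) (ObjectProperty.homMk a') (ObjectProperty.homMk b') sq ha hb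
    ⟨_, isAlgSpace_openSub hF h.1⟩ (ObjectProperty.homMk (openSubι F W)) ⟨repWith_openSubι F h.1, h.2.1,
      fun W₁ w₁ hw₁ hP₁ => by
        let O₁ := Set.range (Points.map w₁.hom)
        have hO₁ : IsOpen O₁ :=
          (isOpenMap_map_of_isEtaleMor W₁.property (isEtaleMor_of_openImmersion hw₁)).isOpen_range
        obtain ⟨i, hi⟩ := exists_iso_openSub hw₁ hO₁ rfl
        have hle := h.2.2 O₁ hO₁ (by rw [← hi, Category.assoc]; exact H.hPb.precomp_iso i _ W₁.property hG hP₁)
        obtain ⟨l, hl⟩ := (exists_factor_iff (repWith_openSubι F h.1) w₁.hom).2 (by rw [range_openSubι]; exact hle)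
        exact ⟨ObjectProperty.homMk l, ObjectProperty.hom_ext _ hl⟩⟩
    ⟨_, isAlgSpace_openSub hF' hW'⟩ (ObjectProperty.homMk (openSubι F' W')) (ObjectProperty.homMk k) sqW
  refine ⟨hW', h2, fun W₁ hW₁ hP₁ => ?_⟩
  obtain ⟨l, hl⟩ := h3 ⟨_, isAlgSpace_openSub hF' hW₁⟩ (ObjectProperty.homMk (openSubι F' W₁))
    (repWith_openSubι F' hW₁) hP₁
  rw [← range_openSubι F' (W := W₁), ← range_openSubι F' (W := Points.map b' ⁻¹' W)]
  exact (exists_factor_iff (repWith_openSubι F' hW') _).1 ⟨l.hom, congrArg (fun m => m.hom) hl⟩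

end Hyp

end LargestLib
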