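import Groth.Agent.LargestLib.Basic

/-! Largest open subsets of the base change of a morphism along a space. -/

set_option autoImplicit false
set_option linter.all false
set_option backward.isDefEq.respectTransparency false
set_option backward.isDefEq.respectTransparency.types false

noncomputable section

universe u

open CategoryTheory CategoryTheory.Limits AlgebraicGeometry Opposite AlgSp FibCat FibLib AlgSpLib AlgStLib

namespace LargestLib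

variable {S : Scheme.{u}} {𝒳 𝒴 𝒵 : AlgSt.Cat S} {P Q R : MorphismProperty (Sp S)}

/-- `Ω` is the set of points of the largest open of `fp u f` on which the projection has `P`. -/
def MaxAt (P : MorphismProperty (Sp S)) (f : 𝒳 ⥤ᵇ 𝒴) {G : Sp S} (u : AlgSt.ofSp G ⥤ᵇ 𝒴)
    (Ω : Set (AlgSt.Points (fp u f))) : Prop :=
  ∃ (F : Sp S) (a : F ⟶ G) (e : AlgSt.ofSp F ⥤ᵇ fp u f), IsAlgSpace F ∧ IsEquivOver e ∧
    Nonempty (BasedFunctor.comp e (FibCat.fpFst u f) ≅ AlgSt.ofSpMap a) ∧ Largest P a (ptMap e ⁻¹' Ω)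

variable (f : 𝒳 ⥤ᵇ 𝒴) {G : Sp S} {u : AlgSt.ofSp G ⥤ᵇ 𝒴}

/-- Two charts of a base change are isomorphic. -/
lemma chart_unique {F F' : Sp S} {a : F ⟶ G} {a' : F' ⟶ G} {e : AlgSt.ofSp F ⥤ᵇ fp u f}
    {e' : AlgSt.ofSp F' ⥤ᵇ fp u f} (he : IsEquivOver e) (he' : IsEquivOver e')
    (β : BasedFunctor.comp e (FibCat.fpFst u f) ≅ AlgSt.ofSpMap a)
    (β' : BasedFunctor.comp e' (FibCat.fpFst u f) ≅ AlgSt.ofSpMap a') :
    ∃ i : F ≅ F', i.hom ≫ a' = a ∧ ∀ x, ptMap e' (Points.map i.hom x) = ptMap e x := by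
  obtain ⟨g, hg, -, ⟨ν⟩⟩ := exists_inverse he'
  obtain ⟨i, ⟨γ⟩⟩ := exists_iso_of_isEquivOver (isEquivOver_comp he hg)
  let i' : F ≅ F' := (fullyFaithfulSheafToPresheaf (AlgSp.J S) _).preimageIso i
  have hi : i'.hom.hom = i.hom := (fullyFaithfulSheafToPresheaf (AlgSp.J S) _).map_preimage i.hom
  refine ⟨i', ObjectProperty.hom_ext _ (eq_of_iso_ofPshMap ?_), fun x => ?_⟩
  · change Stk.ofPshMap (i'.hom.hom ≫ a'.hom) ≅ _
    rw [hi, ofPshMap_comp]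
    exact (whiskerRightIso' γ _).symm ≪≫ (whiskerLeftIso' (BasedFunctor.comp e g) β'.symm) ≪≫
      whiskerLeftIso' e (whiskerRightIso' ν (FibCat.fpFst u f)) ≪≫ β
  · show AlgSt.Points.map e' _ = AlgSt.Points.map e _
    rw [← map_ofPshMap_ptsEquiv_symm, ← map_comp]
    refine congrFun (map_congr ?_) _
    rw [hi]
    exact whiskerRightIso' γ.symm e' ≪≫ whiskerLeftIso' e ν

variable {f}

lemma ptMap_bijective {F : Sp S} {e : AlgSt.ofSp F ⥤ᵇ 𝒳} (he : IsEquivOver e) : Function.Bijective (ptMap e) :=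
  (map_bijective_of_isEquivOver he).comp (ptsEquiv F).symm.bijective

lemma MaxAt.unique (hPb : StableBC P) (hG : IsAlgSpace G) {Ω Ω' : Set (AlgSt.Points (fp u f))}
    (h : MaxAt P f u Ω) (h' : MaxAt P f u Ω') : Ω = Ω' := by
  obtain ⟨F, a, e, hF, he, ⟨β⟩, hL⟩ := h
  obtain ⟨F', a', e', hF', he', ⟨β'⟩, hL'⟩ := h'
  obtain ⟨i, hi, hp⟩ := chart_unique f he he' β β'
  have h2 := largest_iso hPb hF' hG i hL'
  rw [hi] at h2
  have e1 : Points.map i.hom ⁻¹' (ptMap e' ⁻¹' Ω') = ptMap e ⁻¹' Ω' := by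
    ext x
    show ptMap e' _ ∈ Ω' ↔ _
    rw [hp]
    rfl
  rw [e1] at h2
  exact (ptMap_bijective he).2.preimage_injective (hL.unique h2)

lemma exists_maxAt [IsFibGrpd 𝒳.p] [IsFibGrpd 𝒴.p] (H : Hyp P Q R) (hf : AlgSt.RepByAlgSpWith Q f)
    (hG : IsAlgSpace G) : ∃ Ω, MaxAt P f u Ω := by
  obtain ⟨F, a, hF, ⟨e, he, ⟨β⟩⟩, hQ⟩ := exists_along_prop H.hQb H.hQ hf hG u
  obtain ⟨W, hW⟩ := exists_largest H hF hG a hQ
  refine ⟨ptMap e '' W, F, a, e, hF, he, ⟨β⟩, ?_⟩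
  rw [(ptMap_bijective he).1.preimage_image]
  exact hW

lemma exists_chartQ [IsFibGrpd 𝒳.p] [IsFibGrpd 𝒴.p] (H : Hyp P Q R) (hf : AlgSt.RepByAlgSpWith Q f)
    (hG : IsAlgSpace G) {Ω : Set (AlgSt.Points (fp u f))} (h : MaxAt P f u Ω) :
    ∃ (F : Sp S) (a : F ⟶ G) (e : AlgSt.ofSp F ⥤ᵇ fp u f), IsAlgSpace F ∧ IsEquivOver e ∧
    Nonempty (BasedFunctor.comp e (FibCat.fpFst u f) ≅ AlgSt.ofSpMap a) ∧ Q a ∧ Largest P a (ptMap e ⁻¹' Ω) := by
  obtain ⟨F, a, e, hF, he, ⟨β⟩, hL⟩ := h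
  obtain ⟨F', a', hF', ⟨e', he', ⟨β'⟩⟩, hQ⟩ := exists_along_prop H.hQb H.hQ hf hG u
  obtain ⟨i, hi, -⟩ := chart_unique f he he' β β'
  exact ⟨F, a, e, hF, he, ⟨β⟩, hi ▸ H.hQb.precomp_iso i a' hF' hG hQ, hL⟩

/-- The change of base of `fp u f`. -/
abbrev chg (f : 𝒳 ⥤ᵇ 𝒴) {G G' : Sp S} {u : AlgSt.ofSp G ⥤ᵇ 𝒴} {u' : AlgSt.ofSp G' ⥤ᵇ 𝒴}
    (σ : AlgSt.ofSp G' ⥤ᵇ AlgSt.ofSp G) (α : BasedFunctor.comp σ u ≅ u') : fp u' f ⥤ᵇ fp u f :=
  fpMap (a := σ) (b := BasedFunctor.id _) (c := BasedFunctor.id _) (F := u) (G := f) (F' := u') (G' := f)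
    α (Iso.refl _)

theorem MaxAt.baseChange [IsFibGrpd 𝒳.p] [IsFibGrpd 𝒴.p] (H : Hyp P Q R) (hf : AlgSt.RepByAlgSpWith Q f)
    (hG : IsAlgSpace G) {G' : Sp S} (hG' : IsAlgSpace G') {b : G' ⟶ G} (hb : R b)
    {u' : AlgSt.ofSp G' ⥤ᵇ 𝒴} (α : BasedFunctor.comp (AlgSt.ofSpMap b) u ≅ u')
    {Ω : Set (AlgSt.Points (fp u f))} (h : MaxAt P f u Ω) :
    MaxAt P f u' (AlgSt.Points.map (chg f (AlgSt.ofSpMap b) α) ⁻¹' Ω) := by
  obtain ⟨F, a, e, hF, he, ⟨β⟩, hQ, hL⟩ := exists_chartQ H hf hG h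
  let K := pullback a b
  have sq : IsPullback (pullback.fst a b) (pullback.snd a b) a b := IsPullback.of_hasPullback a b
  have hK : IsAlgSpace K := isAlgSpace_pullback hF hG' hG a b
  have sq' := isPullback_sheaf sq
  obtain ⟨γ₀⟩ := nonempty_iso_of_sec (P := G.obj)
    (Φ := BasedFunctor.comp (Stk.ofPshMap (pullback.snd a b).hom) (Stk.ofPshMap b.hom))
    (Ψ := BasedFunctor.comp (Stk.ofPshMap (pullback.fst a b).hom) (Stk.ofPshMap a.hom))
    (fun x => by rw [← ofPshMap_comp, ← ofPshMap_comp, ← sq'.w])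
  let L := fpLift (Stk.ofPshMap (pullback.snd a b).hom) (Stk.ofPshMap (pullback.fst a b).hom) γ₀
  have hL' : IsEquivOver L :=
    isEquivOver_fpLift_of_bijective sq'.flip.w γ₀ (fun T => bijective_toPairs_of_isPullback sq'.flip T)
  haveI := full_id (AlgSt.ofSp G)
  haveI := faithful_id (AlgSt.ofSp G)
  haveI := full_id 𝒴
  haveI := faithful_id 𝒴
  let M : fp (Stk.ofPshMap b.hom) (Stk.ofPshMap a.hom) ⥤ᵇ fp (Stk.ofPshMap b.hom) (FibCat.fpFst u f) :=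
    fpMap (a := BasedFunctor.id _) (b := e) (c := BasedFunctor.id _) (Iso.refl _) β
  have hM : IsEquivOver M := isEquivOver_fpMap _ _ (isEquivOver_id _) he
  let N : fp (BasedFunctor.comp (Stk.ofPshMap b.hom) u) f ⥤ᵇ fp u' f :=
    fpMap (a := BasedFunctor.id _) (b := BasedFunctor.id _) (c := BasedFunctor.id _) (F := u') (G := f)
      (F' := BasedFunctor.comp (Stk.ofPshMap b.hom) u) (G' := f) α.symm (Iso.refl _)
  have hN : IsEquivOver N := isEquivOver_fpMap _ _ (isEquivOver_id _) (isEquivOver_id _)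
  let e' := BasedFunctor.comp (BasedFunctor.comp (BasedFunctor.comp L M) (fpPaste (Stk.ofPshMap b.hom) u f)) N
  have he' : IsEquivOver e' :=
    isEquivOver_comp (isEquivOver_comp (isEquivOver_comp hL' hM) (isEquivOver_fpPaste _ u f)) hN
  let i₁ : BasedFunctor.comp (BasedFunctor.comp e' (chg f (AlgSt.ofSpMap b) α)) (FibCat.fpFst u f) ≅
      BasedFunctor.comp (BasedFunctor.comp (AlgSt.ofSpMap (pullback.fst a b)) e) (FibCat.fpFst u f) :=
    γ₀ ≪≫ whiskerLeftIso' (Stk.ofPshMap (pullback.fst a b).hom) β.symm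
  have κ : BasedFunctor.comp e' (chg f (AlgSt.ofSpMap b) α) ≅
      BasedFunctor.comp (AlgSt.ofSpMap (pullback.fst a b)) e := by
    refine fpIsoExt _ _ i₁ (Iso.refl _) fun o => ?_
    change u.map ((appIso γ₀ o).hom ≫ (appIso β ((Stk.ofPshMap (pullback.fst a b).hom).obj o)).inv) ≫
        (e.obj ((Stk.ofPshMap (pullback.fst a b).hom).obj o)).obj.iso.hom =
      ((appIso α _).hom ≫ ((appIso α _).inv ≫
        (u.map (𝟙 _ ≫ (appIso γ₀ o).hom ≫ (appIso β ((Stk.ofPshMap (pullback.fst a b).hom).obj o)).inv) ≫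
          (e.obj ((Stk.ofPshMap (pullback.fst a b).hom).obj o)).obj.iso.hom) ≫ 𝟙 _) ≫ 𝟙 _) ≫ f.map (𝟙 _)
    rw [Category.id_comp, show f.map (𝟙 _) = 𝟙 _ from f.toFunctor.map_id _]
    erw [Category.comp_id, Category.comp_id, Category.comp_id]
    exact ((appIso α _).hom_inv_id_assoc _).symm
  refine ⟨K, pullback.snd a b, e', hK, he', ⟨Iso.refl _⟩, ?_⟩
  have e1 : ptMap e' ⁻¹' (AlgSt.Points.map (chg f (AlgSt.ofSpMap b) α) ⁻¹' Ω) =
      Points.map (pullback.fst a b) ⁻¹' (ptMap e ⁻¹' Ω) := by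
    ext x
    show AlgSt.Points.map _ (AlgSt.Points.map e' _) ∈ Ω ↔ AlgSt.Points.map e _ ∈ Ω
    rw [← map_comp, map_congr κ, map_comp, map_ofPshMap_ptsEquiv_symm]
  rw [e1]
  exact largest_baseChange H hF hG hK hG' sq hQ hb hL

end LargestLib
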