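import Groth.Agent.LargestLib.Chart

/-! The largest open substack on which a representable morphism has a property. -/

set_option autoImplicit false
set_option linter.all false
set_option backward.isDefEq.respectTransparency false
set_option backward.isDefEq.respectTransparency.types false

noncomputable section

universe u

open CategoryTheory CategoryTheory.Limits AlgebraicGeometry Opposite AlgSp FibCat FibLib AlgSpLib AlgStLib

namespace LargestLib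

variable {S : Scheme.{u}} {𝒳 𝒴 𝒵 : AlgSt.Cat S} {P Q R : MorphismProperty (Sp S)}

/-- The base change of the inclusion of the objects with points in an open set. -/
lemma along_subIncl [IsFibGrpd 𝒳.p] (T : Set (AlgSt.Points 𝒳)) {F : Sp S} (u : AlgSt.ofSp F ⥤ᵇ 𝒳) :
    Along u (AlgSt.subIncl 𝒳 (PtsIn T)) (openSubι F (ptMap u ⁻¹' T)).hom := by
  let O : Set (Points F) := ptMap u ⁻¹' T
  let ι := Stk.ofPshMap (openSubι F O).hom
  have hQ : ∀ o, PtsIn T (u.obj (ι.obj o)) := fun o =>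
    (ptsIn_obj_iff u _).2 fun t => o.sec.property t
  let v : AlgSt.ofSp (openSub F O) ⥤ᵇ AlgSt.fullSub 𝒳 (PtsIn T) :=
    { toFunctor := ObjectProperty.lift (PtsIn T) (ι.toFunctor ⋙ u.toFunctor) hQ
      w := (BasedFunctor.comp ι u).w }
  let e := fpLift (F := u) (G := AlgSt.subIncl 𝒳 (PtsIn T)) ι v (Iso.refl _)
  refine ⟨e, ?_, ⟨Iso.refl _⟩⟩
  haveI : IsFibGrpd (AlgSt.ofSp F).p := Stk.isFibGrpd_ofPsh _
  haveI : IsFibGrpd (AlgSt.fullSub 𝒳 (PtsIn T)).p := isFibGrpd_ptsIn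
  haveI : e.toFunctor.Faithful := ⟨fun {a b} x y h => by
    refine Stk.EltObj.hom_ext ?_
    exact congrArg (fun k => k.hom.fst.hom) h⟩
  haveI : e.toFunctor.Full := ⟨fun {a b} k => by
    have hk : (openSub F O).obj.map k.hom.fst.hom.op b.sec = a.sec := Subtype.ext k.hom.fst.map_sec
    refine ⟨⟨k.hom.fst.hom, hk⟩, fp_hom_ext (Stk.EltObj.hom_ext rfl) (ObjectProperty.hom_ext _ ?_)⟩
    have w := k.hom.w
    change u.map k.hom.fst ≫ 𝟙 _ = 𝟙 _ ≫ k.hom.snd.hom at w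
    erw [Category.comp_id, Category.id_comp] at w
    exact w⟩
  refine isEquivOver_of_vertEssSurj e fun ξ => ?_
  obtain ⟨⟨⟨U', sec⟩, z, i⟩, hi⟩ := ξ
  have hs : PtsIn T (u.obj ⟨U', sec⟩) := ptsIn_of_hom i.hom z.property
  let o : Stk.EltObj (openSub F O).obj := ⟨U', ⟨sec, (ptsIn_obj_iff u _).1 hs⟩⟩
  let j : (⟨u.obj (ι.obj o), hQ o⟩ : (AlgSt.fullSub 𝒳 (PtsIn T)).obj) ≅ z :=
    ObjectProperty.isoMk _ i
  let k : e.obj o ≅ _ := fpIsoMk (x := e.obj o) (y := ⟨⟨⟨U', sec⟩, z, i⟩, hi⟩) (Iso.refl _) j (by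
    change u.map (𝟙 _) ≫ i.hom = 𝟙 _ ≫ i.hom
    rw [u.toFunctor.map_id])
  refine ⟨o, k, ?_⟩
  haveI : (AlgSt.ofSp F).p.IsHomLift (𝟙 U') k.hom.hom.fst := IsHomLift.id rfl
  exact isHomLift_of_fst (𝟙 U') k.hom

variable (f : 𝒳 ⥤ᵇ 𝒴) {G : Sp S} {u : AlgSt.ofSp G ⥤ᵇ 𝒴}

/-- The chart of the restriction to an open substack. -/
lemma along_restrict [IsFibGrpd 𝒳.p] {F : Sp S} {a : F ⟶ G} {e : AlgSt.ofSp F ⥤ᵇ fp u f} (he : IsEquivOver e)
    (β : BasedFunctor.comp e (FibCat.fpFst u f) ≅ AlgSt.ofSpMap a) (T : Set (AlgSt.Points 𝒳)) :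
    Along u (BasedFunctor.comp (AlgSt.subIncl 𝒳 (PtsIn T)) f)
      (openSubι F (ptMap (BasedFunctor.comp e (FibCat.fpSnd u f)) ⁻¹' T) ≫ a).hom := by
  haveI := full_id 𝒳
  haveI := faithful_id 𝒳
  haveI := full_id (AlgSt.fullSub 𝒳 (PtsIn T))
  haveI := faithful_id (AlgSt.fullSub 𝒳 (PtsIn T))
  have hE : IsEquivOver (fpMap (a := e) (b := BasedFunctor.id (AlgSt.fullSub 𝒳 (PtsIn T))) (c := BasedFunctor.id 𝒳)
      (F := fpSnd u f) (G := AlgSt.subIncl 𝒳 (PtsIn T)) (F' := BasedFunctor.comp e (fpSnd u f))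
      (G' := AlgSt.subIncl 𝒳 (PtsIn T)) (Iso.refl _) (Iso.refl _)) := isEquivOver_fpMap _ _ he (isEquivOver_id _)
  exact PRep.transport (PRep.postcomp (along_subIncl T (BasedFunctor.comp e (fpSnd u f))) a.hom)
    (isEquivOver_comp hE (isEquivOver_fpCompRight u (AlgSt.subIncl 𝒳 (PtsIn T)) f))
    (whiskerLeftIso' (FibCat.fpFst (BasedFunctor.comp e (fpSnd u f)) (AlgSt.subIncl 𝒳 (PtsIn T))) β)

variable {f}

/-- Maximality on a covering chart gives maximality among open substacks. -/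
theorem substack_of_maxAt (h𝒳 : AlgSt.IsAlgStack Scheme.fppfPrecoverage 𝒳)
    (h𝒴 : AlgSt.IsAlgStack Scheme.fppfPrecoverage 𝒴) (hPb : StableBC P) (hPl : IsLocalOnBase IsFppfCover P)
    (hf : AlgSt.RepByAlgSp1 f) (hG : IsAlgSpace G) (hu : AlgSt.RepByAlgSpWith (LocP @Smooth) u)
    (hus : AlgSt.RepByAlgSpWith IsSurjectiveMor u) {T : Set (AlgSt.Points 𝒳)} (hT : IsOpen T)
    (h : MaxAt P f u (AlgSt.Points.map (FibCat.fpSnd u f) ⁻¹' T)) :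
    AlgSt.RepByAlgSpWith P (BasedFunctor.comp (AlgSt.subIncl 𝒳 (PtsIn T)) f) ∧
      ∀ Q₁ : 𝒳.obj → Prop, AlgSt.IsOpenSubstack 𝒳 Q₁ Scheme.fppfPrecoverage →
        AlgSt.RepByAlgSpWith P (BasedFunctor.comp (AlgSt.subIncl 𝒳 Q₁) f) → ∀ y, Q₁ y → PtsIn T y := by
  haveI := isFibGrpd_of_isAlgStack h𝒳
  haveI := isFibGrpd_of_isAlgStack h𝒴
  haveI : IsFibGrpd (AlgSt.ofSp G).p := Stk.isFibGrpd_ofPsh _
  obtain ⟨F, a, e, hF, he, ⟨β⟩, hWo, hWP, hWmax⟩ := h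
  have e0 : ∀ T : Set (AlgSt.Points 𝒳), ptMap e ⁻¹' (AlgSt.Points.map (FibCat.fpSnd u f) ⁻¹' T) =
      ptMap (BasedFunctor.comp e (FibCat.fpSnd u f)) ⁻¹' T := fun T => by
    ext x
    show AlgSt.Points.map _ (AlgSt.Points.map e _) ∈ T ↔ AlgSt.Points.map _ _ ∈ T
    rw [map_comp]
  rw [e0] at hWo hWP hWmax
  haveI := isFibGrpd_ptsIn (T := T)
  have hι : AlgSt.RepByAlgSp1 (BasedFunctor.comp (AlgSt.subIncl 𝒳 (PtsIn T)) f) :=
    (repByAlgSp1_iff_with_top _).mpr (repByAlgSpWith_comp' good_top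
      ((repByAlgSp1_iff_with_top _).mp (repByAlgSp1_of_with (isOpenSubstack_ptsIn h𝒳 hT).2.2))
      ((repByAlgSp1_iff_with_top _).mp hf))
  obtain ⟨ε, hε, hεβ⟩ := along_restrict f he β T
  refine ⟨(repByAlgSpWith_iff_cover hPb hPl hι ⟨G, hG⟩
    (repByAlgSpWith_mono (fun _ _ _ _ _ h => locP_flat_of_smooth h) hu)
    (repByAlgSpWith_mono (fun _ _ _ _ _ h => locP_lfp_of_smooth h) hu) hus).mpr
    ⟨⟨_, isAlgSpace_openSub hF hWo⟩, ObjectProperty.homMk (openSubι F _ ≫ a), ε, hε, hεβ, hWP⟩,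
    fun Q₁ hQ₁ hP₁ y hy => ?_⟩
  haveI := isFibGrpd_of_isAlgStack hQ₁.2.1
  let T₁ := Set.range (AlgSt.Points.map (AlgSt.subIncl 𝒳 Q₁))
  have hT₁ : IsOpen T₁ := (bijOn_openSubstack h𝒳).1 hQ₁
  have hO₁ : IsOpen (ptMap (BasedFunctor.comp e (FibCat.fpSnd u f)) ⁻¹' T₁) :=
    hT₁.preimage (continuous_ptMap h𝒳.atlas hF _)
  rw [openSubstack_eq h𝒳 hQ₁] at hy hP₁
  haveI := isFibGrpd_ptsIn (T := T₁)
  obtain ⟨H, b, hH, hb, hPb'⟩ := exists_along_prop hPb hPl hP₁ hG u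
  obtain ⟨i, hi⟩ := along_hom_unique (along_restrict f he β T₁) hb
  have hle := hWmax _ hO₁ (hi ▸ hPb.precomp_iso i b hH hG hPb')
  refine fun p m => ?_
  obtain ⟨g, hg⟩ := surjective_of_repByAlgSpWith hus (AlgSt.Points.map f (AlgSt.Points.mk p))
  obtain ⟨w, -, hw⟩ := exists_point_fp (g := u) (f := f) g (AlgSt.Points.mk p) hg
  obtain ⟨x, rfl⟩ := (ptMap_bijective he).2 w
  have hx : ptMap (BasedFunctor.comp e (FibCat.fpSnd u f)) x = AlgSt.Points.mk p := by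
    rw [← hw]
    show AlgSt.Points.map _ _ = AlgSt.Points.map _ (AlgSt.Points.map e _)
    rw [map_comp]
  rw [← hx]
  exact hle (show ptMap (BasedFunctor.comp e (FibCat.fpSnd u f)) x ∈ T₁ by rw [hx]; exact hy p m)

/-- The largest open of the base change to a covering chart comes from an open set of points. -/
theorem exists_open (h𝒳 : AlgSt.IsAlgStack Scheme.fppfPrecoverage 𝒳)
    (h𝒴 : AlgSt.IsAlgStack Scheme.fppfPrecoverage 𝒴) (H : Hyp P Q R) (hf : AlgSt.RepByAlgSpWith Q f)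
    (hG : IsAlgSpace G) (hu : AlgSt.RepByAlgSpWith (LocP @Smooth) u) :
    ∃ T : Set (AlgSt.Points 𝒳), IsOpen T ∧ MaxAt P f u (AlgSt.Points.map (FibCat.fpSnd u f) ⁻¹' T) := by
  haveI := isFibGrpd_of_isAlgStack h𝒳
  haveI := isFibGrpd_of_isAlgStack h𝒴
  haveI : IsFibGrpd (AlgSt.ofSp G).p := Stk.isFibGrpd_ofPsh _
  haveI : IsFibGrpd (fp u u).p := isFibGrpd_fp
  haveI : IsFibGrpd (fp u f).p := isFibGrpd_fp
  haveI := full_id 𝒴
  haveI := faithful_id 𝒴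
  obtain ⟨Ω, hΩ⟩ := exists_maxAt (u := u) H hf hG
  refine ⟨AlgSt.Points.map (FibCat.fpSnd u f) '' Ω, ?_, ?_⟩
  · obtain ⟨F, a, e, hF, he, ⟨β⟩, hL⟩ := id hΩ
    haveI : IsFibGrpd (AlgSt.ofSp F).p := Stk.isFibGrpd_ofPsh _
    have hv : AlgSt.RepByAlgSpWith (LocP @Smooth) (BasedFunctor.comp e (FibCat.fpSnd u f)) :=
      (repByAlgSpWith_square_iff (f := FibCat.fpSnd u f) (f' := BasedFunctor.comp e (FibCat.fpSnd u f)) (a := e)
        (b := BasedFunctor.id _) he (isEquivOver_id _) (Iso.refl _) _).mp (repByAlgSpWith_fpSnd f hu)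
    have := isOpenMap_map_of_space hF _ (repByAlgSpWith_mono (fun _ _ _ _ _ h => locP_flat_of_smooth h) hv)
      (repByAlgSpWith_mono (fun _ _ _ _ _ h => locP_lfp_of_smooth h) hv)
    rw [map_eq_ptMap] at this
    have hop : IsOpen (ptMap (BasedFunctor.comp e (FibCat.fpSnd u f)) '' (ptMap e ⁻¹' Ω)) := by
      have h2 := isOpenMap_ptMap hF _ (repByAlgSpWith_mono (fun _ _ _ _ _ h => locP_flat_of_smooth h) hv)
        (repByAlgSpWith_mono (fun _ _ _ _ _ h => locP_lfp_of_smooth h) hv)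
      exact h2 _ hL.1
    convert hop using 1
    have e0 : ptMap (BasedFunctor.comp e (FibCat.fpSnd u f)) = AlgSt.Points.map (FibCat.fpSnd u f) ∘ ptMap e :=
      funext fun x => map_comp _ _ _
    rw [e0, Set.image_comp, Set.image_preimage_eq _ (ptMap_bijective he).2]
  have hu' : AlgSt.RepByAlgSpWith R u := repByAlgSpWith_mono
    (fun X Y g hX hY hg => H.h₂ ⟨X, hX⟩ ⟨Y, hY⟩ (ObjectProperty.homMk g) hg) hu
  obtain ⟨RG, s, hRG, ⟨eR, heR, ⟨βs⟩⟩, hs⟩ := exists_along_prop H.hRb H.hR hu' hG u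
  haveI : IsFibGrpd (AlgSt.ofSp RG).p := Stk.isFibGrpd_ofPsh _
  obtain ⟨βt⟩ := nonempty_iso_mapOf (BasedFunctor.comp eR (FibCat.fpSnd u u))
  let t : RG ⟶ G := ObjectProperty.homMk (mapOf (BasedFunctor.comp eR (FibCat.fpSnd u u)))
  have ht : R t := by
    have : Along u u t.hom := ⟨BasedFunctor.comp eR (fpSwap u u), isEquivOver_comp heR (isEquivOver_fpSwap u u), ⟨βt⟩⟩
    obtain ⟨H', b, hH', hb, hRb'⟩ := exists_along_prop H.hRb H.hR hu' hG u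
    obtain ⟨i, hi⟩ := along_hom_unique this hb
    exact hi ▸ H.hRb.precomp_iso i b hH' hG hRb'
  let u₁ := BasedFunctor.comp (FibCat.fpFst u u) u
  let u₂ : AlgSt.ofSp RG ⥤ᵇ 𝒴 := BasedFunctor.comp eR u₁
  let αs : BasedFunctor.comp (AlgSt.ofSpMap s) u ≅ u₂ := whiskerRightIso' βs.symm u
  let αt : BasedFunctor.comp (AlgSt.ofSpMap t) u ≅ u₂ :=
    whiskerRightIso' βt.symm u ≪≫ whiskerLeftIso' eR (fpIso u u).symm
  have heq := (hΩ.baseChange H hf hG hRG hs αs).unique H.hPb hRG (hΩ.baseChange H hf hG hRG ht αt)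
  let E : fp u₂ f ⥤ᵇ fp u₁ f :=
    fpMap (a := eR) (b := BasedFunctor.id _) (c := BasedFunctor.id _) (F := u₁) (G := f) (F' := u₂) (G' := f)
      (Iso.refl _) (Iso.refl _)
  have hE : IsEquivOver E := isEquivOver_fpMap _ _ heR (isEquivOver_id _)
  let Φ₁ : fp u₁ f ⥤ᵇ fp u f :=
    fpMap (a := FibCat.fpFst u u) (b := BasedFunctor.id _) (c := BasedFunctor.id _) (F := u) (G := f) (F' := u₁)
      (G' := f) (Iso.refl _) (Iso.refl _)
  let Φ₂ : fp u₁ f ⥤ᵇ fp u f :=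
    fpMap (a := FibCat.fpSnd u u) (b := BasedFunctor.id _) (c := BasedFunctor.id _) (F := u) (G := f) (F' := u₁)
      (G' := f) (fpIso u u).symm (Iso.refl _)
  let k₁ : BasedFunctor.comp (chg f (AlgSt.ofSpMap s) αs) (FibCat.fpFst u f) ≅
      BasedFunctor.comp (BasedFunctor.comp E Φ₁) (FibCat.fpFst u f) :=
    whiskerLeftIso' (FibCat.fpFst u₂ f) βs.symm
  have κs : chg f (AlgSt.ofSpMap s) αs ≅ BasedFunctor.comp E Φ₁ := by
    refine fpIsoExt _ _ k₁ (Iso.refl _) fun x => ?_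
    change u.map (appIso βs x.obj.fst).inv ≫ (𝟙 _ ≫ (𝟙 _ ≫ x.obj.iso.hom ≫ 𝟙 _) ≫ 𝟙 _) =
      (u.map (appIso βs x.obj.fst).inv ≫ x.obj.iso.hom ≫ 𝟙 _) ≫ f.map (𝟙 _)
    simp
  let k₂ : BasedFunctor.comp (chg f (AlgSt.ofSpMap t) αt) (FibCat.fpFst u f) ≅
      BasedFunctor.comp (BasedFunctor.comp E Φ₂) (FibCat.fpFst u f) :=
    whiskerLeftIso' (FibCat.fpFst u₂ f) βt.symm
  have κt : chg f (AlgSt.ofSpMap t) αt ≅ BasedFunctor.comp E Φ₂ := by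
    refine fpIsoExt _ _ k₂ (Iso.refl _) fun x => ?_
    change u.map (appIso βt x.obj.fst).inv ≫ ((eR.obj x.obj.fst).obj.iso.inv ≫ (𝟙 _ ≫ x.obj.iso.hom ≫ 𝟙 _) ≫ 𝟙 _) =
      ((u.map (appIso βt x.obj.fst).inv ≫ (eR.obj x.obj.fst).obj.iso.inv) ≫ x.obj.iso.hom ≫ 𝟙 _) ≫ f.map (𝟙 _)
    simp
  have hΦ : AlgSt.Points.map Φ₁ ⁻¹' Ω = AlgSt.Points.map Φ₂ ⁻¹' Ω := by
    refine (map_bijective_of_isEquivOver hE).2.preimage_injective ?_
    rw [map_congr κs, map_congr κt] at heq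
    ext x
    have := Set.ext_iff.1 heq x
    simp only [Set.mem_preimage, map_comp] at this ⊢
    exact this
  suffices AlgSt.Points.map (FibCat.fpSnd u f) ⁻¹' (AlgSt.Points.map (FibCat.fpSnd u f) '' Ω) = Ω by
    rw [this]
    exact hΩ
  refine Set.Subset.antisymm ?_ (Set.subset_preimage_image _ _)
  rintro w ⟨w', hw', e⟩
  obtain ⟨z, hz₁, hz₂⟩ := exists_point_fp (g := FibCat.fpSnd u f) (f := FibCat.fpSnd u f) w' w e
  let p₁ := FibCat.fpFst (FibCat.fpSnd u f) (FibCat.fpSnd u f)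
  let p₂ := FibCat.fpSnd (FibCat.fpSnd u f) (FibCat.fpSnd u f)
  let θ : fp (FibCat.fpSnd u f) (FibCat.fpSnd u f) ⥤ᵇ fp u u :=
    fpLift (BasedFunctor.comp p₁ (FibCat.fpFst u f)) (BasedFunctor.comp p₂ (FibCat.fpFst u f))
      (whiskerLeftIso' p₁ (fpIso u f) ≪≫ whiskerRightIso' (fpIso (FibCat.fpSnd u f) (FibCat.fpSnd u f)) f ≪≫
        (whiskerLeftIso' p₂ (fpIso u f)).symm)
  let Θ : fp (FibCat.fpSnd u f) (FibCat.fpSnd u f) ⥤ᵇ fp u₁ f :=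
    fpLift θ (BasedFunctor.comp p₁ (FibCat.fpSnd u f)) (whiskerLeftIso' p₁ (fpIso u f))
  have c₁ : BasedFunctor.comp Θ Φ₁ ≅ p₁ := by
    refine fpIsoExt _ _ (Iso.refl _) (Iso.refl _) fun x => ?_
    change u.map (𝟙 _) ≫ x.obj.fst.obj.iso.hom = (𝟙 _ ≫ x.obj.fst.obj.iso.hom ≫ 𝟙 _) ≫ f.map (𝟙 _)
    simp
  let j₂ : BasedFunctor.comp (BasedFunctor.comp Θ Φ₂) (FibCat.fpSnd u f) ≅ BasedFunctor.comp p₂ (FibCat.fpSnd u f) :=
    fpIso (FibCat.fpSnd u f) (FibCat.fpSnd u f)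
  have c₂ : BasedFunctor.comp Θ Φ₂ ≅ p₂ := by
    refine fpIsoExt _ _ (Iso.refl _) j₂ fun x => ?_
    change u.map (𝟙 _) ≫ x.obj.snd.obj.iso.hom =
      (((x.obj.snd.obj.iso.hom ≫ f.map x.obj.iso.inv) ≫ x.obj.fst.obj.iso.inv) ≫ x.obj.fst.obj.iso.hom ≫ 𝟙 _) ≫
        f.map x.obj.iso.hom
    simp
  have hz : AlgSt.Points.map Θ z ∈ AlgSt.Points.map Φ₁ ⁻¹' Ω := by
    rw [Set.mem_preimage, ← map_comp, map_congr c₁, hz₁]
    exact hw'
  rw [hΦ, Set.mem_preimage, ← map_comp, map_congr c₂, hz₂] at hz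
  exact hz

end LargestLib
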