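import Groth.Agent.LargestLib.Main

/-! Existence and base change of the largest open substack with a property. -/

set_option autoImplicit false
set_option linter.all false
set_option backward.isDefEq.respectTransparency false
set_option backward.isDefEq.respectTransparency.types false

noncomputable section

universe u

open CategoryTheory CategoryTheory.Limits AlgebraicGeometry Opposite AlgSp FibCat FibLib AlgSpLib AlgStLib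

namespace LargestLib

variable {S : Scheme.{u}} {𝒳 𝒴 𝒵 : AlgSt.Cat S} {P Q R : MorphismProperty (Sp S)}

theorem exists_largest_substack (h𝒳 : AlgSt.IsAlgStack Scheme.fppfPrecoverage 𝒳)
    (h𝒴 : AlgSt.IsAlgStack Scheme.fppfPrecoverage 𝒴) (H : Hyp P Q R) (f : 𝒳 ⥤ᵇ 𝒴)
    (hf : AlgSt.RepByAlgSpWith Q f) :
    ∃ Q₀ : 𝒳.obj → Prop, AlgSt.IsOpenSubstack 𝒳 Q₀ Scheme.fppfPrecoverage ∧
      AlgSt.RepByAlgSpWith P (BasedFunctor.comp (AlgSt.subIncl 𝒳 Q₀) f) ∧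
        ∀ Q₁ : 𝒳.obj → Prop, AlgSt.IsOpenSubstack 𝒳 Q₁ Scheme.fppfPrecoverage →
          AlgSt.RepByAlgSpWith P (BasedFunctor.comp (AlgSt.subIncl 𝒳 Q₁) f) → ∀ y, Q₁ y → Q₀ y := by
  obtain ⟨V, y, hy, hys⟩ := h𝒴.atlas
  have hG := IsAlgSpace.yon_obj (S := S) V
  have hu := repByAlgSpWith_toOverCat_comp hy
  obtain ⟨T, hT, hmax⟩ := exists_open h𝒳 h𝒴 H hf hG hu
  exact ⟨PtsIn T, isOpenSubstack_ptsIn h𝒳 hT, substack_of_maxAt h𝒳 h𝒴 H.hPb H.hP (repByAlgSp1_of_with hf) hG hu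
    (repByAlgSpWith_toOverCat_comp hys) hT hmax⟩

lemma ptsIn_obj_preimage' {𝒳' : AlgSt.Cat S} [IsFibGrpd 𝒳'.p] [IsFibGrpd 𝒳.p] (g : 𝒳' ⥤ᵇ 𝒳)
    (T : Set (AlgSt.Points 𝒳)) (a : 𝒳'.obj) : PtsIn T (g.obj a) ↔ PtsIn (AlgSt.Points.map g ⁻¹' T) a := by
  refine ⟨fun h p m => h (p.map g) (g.map m), fun h p m => ?_⟩
  let β : Over.mk p.str ⟶ 𝒳'.p.obj a := eqToHom p.lies.symm ≫ 𝒳.p.map m ≫ eqToHom (g.w_obj a)
  haveI : 𝒳.p.IsHomLift β m := IsHomLift.of_fac _ _ _ p.lies (g.w_obj a) rfl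
  obtain ⟨z, φ, hφ⟩ := exists_lift 𝒳'.p (a := a) rfl β
  haveI := g.preserves_isHomLift β φ
  obtain ⟨χ, -⟩ := exists_vert_to_lift β m (g.map φ)
  let q : AlgSt.FPt 𝒳' := { K := p.K, str := p.str, obj := z, lies := IsHomLift.domain_eq 𝒳'.p β φ }
  rw [mk_eq_of_hom (q := q.map g) χ]
  exact h q φ

theorem largest_substack_baseChange (h𝒳 : AlgSt.IsAlgStack Scheme.fppfPrecoverage 𝒳)
    (h𝒴 : AlgSt.IsAlgStack Scheme.fppfPrecoverage 𝒴) (h𝒵 : AlgSt.IsAlgStack Scheme.fppfPrecoverage 𝒵)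
    (H : Hyp P Q R) (f : 𝒳 ⥤ᵇ 𝒴) (hf : AlgSt.RepByAlgSpWith Q f)
    (Q₀ : 𝒳.obj → Prop) (hQ₀ : AlgSt.IsOpenSubstack 𝒳 Q₀ Scheme.fppfPrecoverage)
    (hQ₀P : AlgSt.RepByAlgSpWith P (BasedFunctor.comp (AlgSt.subIncl 𝒳 Q₀) f))
    (hQ₀max : ∀ Q₁ : 𝒳.obj → Prop, AlgSt.IsOpenSubstack 𝒳 Q₁ Scheme.fppfPrecoverage →
      AlgSt.RepByAlgSpWith P (BasedFunctor.comp (AlgSt.subIncl 𝒳 Q₁) f) → ∀ y, Q₁ y → Q₀ y)
    (z : 𝒵 ⥤ᵇ 𝒴) (hz : AlgSt.RepByAlgSpWith R z) :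
    AlgSt.IsOpenSubstack (FibCat.fp z f) (fun b ↦ Q₀ b.obj.snd) Scheme.fppfPrecoverage ∧
      AlgSt.RepByAlgSpWith P
        (BasedFunctor.comp (AlgSt.subIncl (FibCat.fp z f) fun b ↦ Q₀ b.obj.snd) (FibCat.fpFst z f)) ∧
        ∀ Q₁ : (FibCat.fp z f).obj → Prop, AlgSt.IsOpenSubstack (FibCat.fp z f) Q₁ Scheme.fppfPrecoverage →
          AlgSt.RepByAlgSpWith P (BasedFunctor.comp (AlgSt.subIncl (FibCat.fp z f) Q₁) (FibCat.fpFst z f)) →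
            ∀ b, Q₁ b → Q₀ b.obj.snd := by
  haveI := isFibGrpd_of_isAlgStack h𝒳
  haveI := isFibGrpd_of_isAlgStack h𝒴
  haveI := isFibGrpd_of_isAlgStack h𝒵
  haveI : IsFibGrpd (fp z f).p := isFibGrpd_fp
  have h𝒫 := isAlgStack_fp' h𝒵 h𝒳 h𝒴 z f
  obtain ⟨V, y, hy, hys⟩ := h𝒴.atlas
  let G := (yon S).obj V
  have hG : IsAlgSpace G := IsAlgSpace.yon_obj V
  let u : AlgSt.ofSp G ⥤ᵇ 𝒴 := BasedFunctor.comp (AlgSt.toOverCat V) y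
  have hu : AlgSt.RepByAlgSpWith (LocP @Smooth) u := repByAlgSpWith_toOverCat_comp hy
  have hus : AlgSt.RepByAlgSpWith IsSurjectiveMor u := repByAlgSpWith_toOverCat_comp hys
  haveI : IsFibGrpd (AlgSt.ofSp G).p := Stk.isFibGrpd_ofPsh _
  obtain ⟨T, hT, hmax⟩ := exists_open h𝒳 h𝒴 H hf hG hu
  obtain ⟨hTP, hTmax⟩ := substack_of_maxAt h𝒳 h𝒴 H.hPb H.hP (repByAlgSp1_of_with hf) hG hu hus hT hmax
  have hQeq : Q₀ = PtsIn T := funext fun a => propext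
    ⟨hTmax Q₀ hQ₀ hQ₀P a, hQ₀max _ (isOpenSubstack_ptsIn h𝒳 hT) hTP a⟩
  subst hQeq
  let T' := AlgSt.Points.map (FibCat.fpSnd z f) ⁻¹' T
  have hT' : IsOpen T' := hT.preimage (continuous_map h𝒳.atlas (FibCat.fpSnd z f))
  have hQg : (fun b : (FibCat.fp z f).obj ↦ PtsIn T b.obj.snd) = PtsIn T' := funext fun b => propext
    (ptsIn_obj_preimage' (FibCat.fpSnd z f) T b)
  rw [hQg]
  refine ⟨isOpenSubstack_ptsIn h𝒫 hT', ?_⟩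
  obtain ⟨GZ, b, hGZ, ⟨eZ, heZ, ⟨βZ⟩⟩, hb⟩ := exists_along_prop H.hRb H.hR hz hG u
  haveI : IsFibGrpd (AlgSt.ofSp GZ).p := Stk.isFibGrpd_ofPsh _
  haveI : IsFibGrpd (fp u z).p := isFibGrpd_fp
  let w := BasedFunctor.comp eZ (FibCat.fpSnd u z)
  have hw : ∀ P : MorphismProperty (Sp S), AlgSt.RepByAlgSpWith P u → AlgSt.RepByAlgSpWith P w := fun P h =>
    (repByAlgSpWith_square_iff (f := FibCat.fpSnd u z) (f' := w) (a := eZ)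
      (b := BasedFunctor.id _) heZ (isEquivOver_id _) (Iso.refl _) _).mp (repByAlgSpWith_fpSnd z h)
  let α : BasedFunctor.comp (AlgSt.ofSpMap b) u ≅ BasedFunctor.comp w z :=
    whiskerRightIso' βZ.symm u ≪≫ whiskerLeftIso' eZ (fpIso u z)
  suffices hm : MaxAt P (FibCat.fpFst z f) w (AlgSt.Points.map (FibCat.fpSnd w (FibCat.fpFst z f)) ⁻¹' T') by
    obtain ⟨h1, h2⟩ := substack_of_maxAt h𝒫 h𝒵 H.hPb H.hP (repByAlgSp1_of_with (repByAlgSpWith_fpFst Q z hf)) hGZ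
      (hw _ hu) (hw _ hus) hT' hm
    exact ⟨h1, fun Q₁ hQ₁ hP₁ b hb => (ptsIn_obj_preimage' (FibCat.fpSnd z f) T b).2 (h2 Q₁ hQ₁ hP₁ b hb)⟩
  obtain ⟨F, a, e, hF, he, ⟨β⟩, hL⟩ := hmax.baseChange H hf hG hGZ hb α
  obtain ⟨J, hJ, -, ⟨ν⟩⟩ := exists_inverse (isEquivOver_fpPaste w z f)
  refine ⟨F, a, BasedFunctor.comp e J, hF, isEquivOver_comp he hJ,
    ⟨whiskerLeftIso' e (whiskerRightIso' ν (FibCat.fpFst (BasedFunctor.comp w z) f)) ≪≫ β⟩, ?_⟩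
  have e1 : ptMap (BasedFunctor.comp e J) ⁻¹' (AlgSt.Points.map (FibCat.fpSnd w (FibCat.fpFst z f)) ⁻¹' T') =
      ptMap e ⁻¹' (AlgSt.Points.map (chg f (AlgSt.ofSpMap b) α) ⁻¹' (AlgSt.Points.map (FibCat.fpSnd u f) ⁻¹' T)) := by
    ext x
    show AlgSt.Points.map (FibCat.fpSnd z f) (AlgSt.Points.map _ (AlgSt.Points.map (BasedFunctor.comp e J) _)) ∈ T ↔
      AlgSt.Points.map _ (AlgSt.Points.map _ (AlgSt.Points.map e _)) ∈ T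
    rw [← map_comp, ← map_comp, ← map_comp, ← map_comp]
    have hc : AlgSt.Points.map (BasedFunctor.comp (BasedFunctor.comp e J) (BasedFunctor.comp (FibCat.fpSnd w (FibCat.fpFst z f))
        (FibCat.fpSnd z f))) = AlgSt.Points.map (BasedFunctor.comp e (BasedFunctor.comp (chg f (AlgSt.ofSpMap b) α) (FibCat.fpSnd u f))) :=
      map_congr (whiskerLeftIso' e (whiskerRightIso' ν (FibCat.fpSnd (BasedFunctor.comp w z) f)))
    rw [hc]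
  rw [e1]
  exact hL

end LargestLib
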